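import Cfsg.Agent.Lib.SEightThree.Five.BigData

/-!
Checking slots of the certificate.
-/

namespace CfsgLib.SEightThree.Five.Big

open CfsgLib.PresCert

theorem slots_0 : cert.okRange 0 512 = true := by decide +kernel

theorem slots_1 : cert.okRange 512 512 = true := by decide +kernel

theorem slots_2 : cert.okRange 1024 512 = true := by decide +kernel

theorem slots_3 : cert.okRange 1536 512 = true := by decide +kernel

theorem slots_4 : cert.okRange 2048 512 = true := by decide +kernel

theorem slots_5 : cert.okRange 2560 512 = true := by decide +kernel

theorem slots_6 : cert.okRange 3072 512 = true := by decide +kernel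

theorem slots_7 : cert.okRange 3584 512 = true := by decide +kernel


end CfsgLib.SEightThree.Five.Big
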