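import Cfsg.Agent.Lib.PresCert.Check

/-!
Coset table certificate (generated data).
-/

namespace CfsgLib.SEightThree.Five.C00

open CfsgLib.PresCert

noncomputable def tab : BTree := (.leaf 0x6800020000000000480001800000000028000100000000000800008000000005ec001a80000)

noncomputable def par : BTree := (.leaf 0x30000b000000000030000c0000000000000003000000000000000600000000003000060000000000000008000000000030000500000000003000030000000000100004000000000000000400000000002000020000000000200001000000000010000100000000000000000000000000000000)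

noncomputable def fact : BTree := (.node (.leaf 0x240000e50000b000230000e50000b000220000e20000e000210000d10000e000200000a00000e0001f0000e30000b0001e0000700000d0001d0000d30000c0001c0000b10000c0001b0000c0000030001a0000b20000b000190000b000006000180000910000a000170000a30000600016000092000090001500004300009000140000900000800013000071000080001200008300005000110000720000700010000073000030000f000052000060000e000061000040000d000031000050000c000050000040000b000042000020000a0000320000100009000023000020000800002000002000070000210000100006000013000010000500001000000) (.leaf 0x340000000000000033000015000000003200001500000000310000250000100030000065000010002f000065000020002e000055000020002d000022000020002c000065000010002b000055000020002a00004500002000290000450000200028000095000040002700009500004000260000a500006000250000a500006))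

/-- the certificate -/
noncomputable def cert : Cert where
  n := 1
  v := 14
  g := 5
  inv := [0, 1, 2, 3, 4]
  rels := [[0, 1, 0, 1, 0, 1], [1, 2, 1, 2, 1, 2], [2, 3, 2, 3, 2, 3], [3, 4, 3, 4, 3, 4], [0, 3, 0, 3], [0, 4, 0, 4], [1, 3, 1, 3], [1, 4, 1, 4], [2, 4, 2, 4], [0, 2, 0, 2, 0, 2, 0, 2, 0, 2], [0, 1, 2, 0, 1, 2, 0, 1, 2]]
  subs := [[1], [2], [3], [4]]
  tab := tab
  par := par
  fact := fact
  nfact := 48

/-- justifications -/
noncomputable def just0 : List Cert.Just :=
  [.define,
   .loop (some (4, 1)) [.bwd 0, .edge 3, .fwd 0],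
   .define,
   .loop (some (0, 2)) [.bwd 2, .bwd 0, .edge 1, .fwd 0, .fwd 2],
   .loop (some (6, 1)) [.bwd 2, .fwd 1, .fwd 2],
   .define,
   .define,
   .define,
   .loop (some (10, 1)) [.bwd 5, .bwd 0, .edge 1, .edge 2, .fwd 0, .fwd 2, .fwd 6, .fwd 7],
   .define,
   .loop (some (1, 1)) [.fwd 8, .bwd 5, .fwd 2, .fwd 6, .fwd 9],
   .define,
   .loop (some (2, 2)) [.bwd 11, .bwd 5, .fwd 1, .fwd 5, .fwd 11],
   .define,
   .loop (some (6, 2)) [.bwd 11, .bwd 8, .fwd 13],
   .define,
   .loop (some (4, 1)) [.fwd 7, .fwd 13, .fwd 15],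
   .loop (some (2, 0)) [.fwd 16, .bwd 6, .fwd 4, .fwd 6, .bwd 16],
   .define,
   .loop (some (6, 2)) [.fwd 16, .fwd 9, .fwd 18],
   .define,
   .loop (some (9, 1)) [.bwd 20, .fwd 10, .bwd 7, .bwd 6, .fwd 3, .fwd 6, .fwd 7, .bwd 10, .fwd 20],
   .define,
   .loop (some (0, 1)) [.bwd 20, .bwd 9, .fwd 7, .fwd 8, .fwd 22],
   .define,
   .loop (some (4, 2)) [.bwd 11, .fwd 22, .fwd 24],
   .define,
   .loop (some (4, 2)) [.bwd 18, .fwd 20, .fwd 26],
   .loop (some (6, 2)) [.bwd 24, .fwd 23, .fwd 26],
   .loop (some (10, 8)) [.fwd 27, .fwd 19, .fwd 17, .bwd 15, .fwd 14, .fwd 12, .bwd 25, .bwd 28],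
   .loop (some (2, 0)) [.fwd 29, .bwd 26, .fwd 21, .fwd 26, .fwd 29, .bwd 26],
   .loop none [.bwd 30],
   .loop none [.bwd 27, .bwd 31, .bwd 20],
   .loop none [.bwd 32],
   .loop none [.bwd 19, .bwd 33, .bwd 9],
   .loop none [.bwd 34],
   .loop none [.fwd 35, .bwd 17, .bwd 35, .bwd 6],
   .loop none [.bwd 36],
   .loop none [.bwd 7, .bwd 37, .fwd 3],
   .loop none [.bwd 9, .bwd 37, .bwd 2],
   .loop none [.fwd 6, .bwd 37],
   .loop none [.bwd 38],
   .loop none [.fwd 10, .bwd 41, .fwd 40],
   .loop none [.bwd 39],
   .loop none [.fwd 42, .bwd 43],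
   .loop none [.fwd 44, .bwd 3, .bwd 44, .bwd 0],
   .loop none [.bwd 45],
   .loop none [.fwd 0, .bwd 46]]

/-- justifications -/
noncomputable def justs : List Cert.Just := just0

end CfsgLib.SEightThree.Five.C00
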