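import Cfsg.Agent.Lib.PresCert.Check

/-!
Coset table certificate (generated data).
-/

namespace CfsgLib.SEightThree.Five.C10

open CfsgLib.PresCert

noncomputable def tab : BTree := (.leaf 0x68000200000000004800018000000000280001000000000008000080000000066c001c80000)

noncomputable def par : BTree := (.leaf 0x30000b000000000030000c0000000000000003000000000000000600000000003000060000000000000008000000000030000500000000003000030000000000100004000000000000000400000000002000020000000000200001000000000010000100000000000000000000000000000000)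

noncomputable def fact : BTree := (.node (.leaf 0x240000a00000e000230000e30000b000220000700000d000210000d30000c000200000b10000c0001f0000c0000030001e0000b20000b0001d0000b0000060001c0000910000a0001b0000a3000060001a0000920000900019000043000090001800009000008000170000710000800016000083000050001500007200007000140000730000300013000064000060001200005200006000110000610000400010000031000050000f000050000040000e000044000040000d000042000020000c000032000010000b000024000020000a0000230000200009000020000020000800002100001000070000140000100006000013000010000500001000000) (.leaf 0x3800000000000000370000150000000036000015000000003500002500001000340000650000100033000065000020003200005500002000310000220000200030000065000010002f000055000020002e000045000020002d000045000020002c000095000040002b000095000040002a0000a500006000290000a500006000280000e50000b000270000e50000b000260000e20000e000250000d10000e))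

/-- the certificate -/
noncomputable def cert : Cert where
  n := 1
  v := 14
  g := 5
  inv := [0, 1, 2, 3, 4]
  rels := [[0, 1, 0, 1, 0, 1], [1, 2, 1, 2, 1, 2], [2, 3, 2, 3, 2, 3], [3, 4, 3, 4, 3, 4], [0, 3, 0, 3], [0, 4, 0, 4], [1, 3, 1, 3], [1, 4, 1, 4], [2, 4, 2, 4], [0, 2, 0, 2, 0, 2, 0, 2, 0, 2, 4], [0, 1, 2, 0, 1, 2, 0, 1, 2]]
  subs := [[1], [2], [3], [4]]
  tab := tab
  par := par
  fact := fact
  nfact := 52

/-- justifications -/
noncomputable def just0 : List Cert.Just :=
  [.define,
   .loop (some (4, 1)) [.bwd 0, .edge 3, .fwd 0],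
   .loop (some (5, 1)) [.bwd 0, .edge 4, .fwd 0],
   .define,
   .loop (some (0, 2)) [.bwd 3, .bwd 0, .edge 1, .fwd 0, .fwd 3],
   .loop (some (6, 1)) [.bwd 3, .fwd 1, .fwd 3],
   .loop (some (7, 1)) [.bwd 3, .fwd 2, .fwd 3],
   .define,
   .define,
   .loop (some (8, 1)) [.bwd 8, .fwd 6, .fwd 8],
   .define,
   .loop (some (10, 1)) [.bwd 7, .bwd 0, .edge 1, .edge 2, .fwd 0, .fwd 3, .fwd 8, .fwd 10],
   .define,
   .loop (some (1, 1)) [.fwd 11, .bwd 7, .fwd 3, .fwd 8, .fwd 12],
   .loop (some (7, 1)) [.bwd 12, .fwd 9, .fwd 12],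
   .define,
   .loop (some (2, 2)) [.bwd 15, .bwd 7, .fwd 1, .fwd 7, .fwd 15],
   .define,
   .loop (some (6, 2)) [.bwd 15, .bwd 11, .fwd 17],
   .define,
   .loop (some (4, 1)) [.fwd 10, .fwd 17, .fwd 19],
   .loop (some (2, 0)) [.fwd 20, .bwd 8, .fwd 5, .fwd 8, .bwd 20],
   .define,
   .loop (some (6, 2)) [.fwd 20, .fwd 12, .fwd 22],
   .define,
   .loop (some (9, 1)) [.bwd 24, .fwd 13, .bwd 10, .bwd 8, .fwd 4, .fwd 8, .fwd 10, .bwd 13, .fwd 14, .fwd 24],
   .define,
   .loop (some (0, 1)) [.bwd 24, .bwd 12, .fwd 10, .fwd 11, .fwd 26],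
   .define,
   .loop (some (4, 2)) [.bwd 15, .fwd 26, .fwd 28],
   .define,
   .loop (some (4, 2)) [.bwd 22, .fwd 24, .fwd 30],
   .loop (some (6, 2)) [.bwd 28, .fwd 27, .fwd 30],
   .loop (some (10, 8)) [.fwd 31, .fwd 23, .fwd 21, .bwd 19, .fwd 18, .fwd 16, .bwd 29, .bwd 32],
   .loop (some (2, 0)) [.fwd 33, .bwd 30, .fwd 25, .fwd 30, .fwd 33, .bwd 30],
   .loop none [.bwd 34],
   .loop none [.bwd 31, .bwd 35, .bwd 24],
   .loop none [.bwd 36],
   .loop none [.bwd 23, .bwd 37, .bwd 12],
   .loop none [.bwd 38],
   .loop none [.fwd 39, .bwd 21, .bwd 39, .bwd 8],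
   .loop none [.bwd 40],
   .loop none [.bwd 10, .bwd 41, .fwd 4],
   .loop none [.bwd 12, .bwd 41, .bwd 3],
   .loop none [.fwd 8, .bwd 41],
   .loop none [.bwd 42],
   .loop none [.fwd 13, .bwd 45, .fwd 44],
   .loop none [.bwd 43],
   .loop none [.fwd 46, .bwd 47],
   .loop none [.fwd 48, .bwd 4, .bwd 48, .bwd 0],
   .loop none [.bwd 49],
   .loop none [.fwd 0, .bwd 50]]

/-- justifications -/
noncomputable def justs : List Cert.Just := just0

end CfsgLib.SEightThree.Five.C10
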