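import Cfsg.Agent.Lib.PresCert.Check

/-!
Coset table certificate (generated data).
-/

namespace CfsgLib.SEightThree.Five.C11

open CfsgLib.PresCert

noncomputable def tab : BTree := (.leaf 0x680002000000000048000180000000002800010000000000080000800000000c4c003400000)

noncomputable def par : BTree := (.leaf 0x10001600000000004000150000000000300014000000000000001200000000004000110000000000300011000000000020000a000000000000000f000000000020000e000000000030000b000000000030000c0000000000000003000000000000000600000000003000060000000000000008000000000030000500000000003000030000000000100004000000000000000400000000002000020000000000200001000000000010000100000000000000000000000000000000)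

noncomputable def fact : BTree := (.node (.node (.leaf 0x240000a00000e000230000e30000b000220000700000d000210000d30000c000200000b10000c0001f0000c0000030001e0000b20000b0001d0000b0000060001c0000910000a0001b0000a3000060001a0000920000900019000043000090001800009000008000170000710000800016000083000050001500007200007000140000730000300013000064000060001200005200006000110000610000400010000031000050000f000050000040000e000044000040000d000042000020000c000032000010000b000024000020000a0000230000200009000020000020000800002100001000070000140000100006000013000010000500001000000) (.leaf 0x640000250000100063000025000010006200004500002000610000550000400060000085000050005f000055000020005e000041000040005d000065000040005c000095000080005b000095000040005a0000f500009000590001050000800058000175000080005700013500010000560000850000500055000125000060005400006500004000530000a500009000520000f500010000510000f50000a000500000e50000a0004f000175000130004e000165000130004d000175000080004c000145000120004b000135000100004a00012500006000490000a20000a000480000a500009000470000a50000e000460001150000a0004500016500013))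 (.node (.leaf 0x4400014500012000430001150000a0004200011000011000410001550001100040000155000110003f000162000160003e000152000150003d000173000170003c000163000160003b000144000140003a0001420001700039000170000170003800017100016000370001300001600036000164000150003500011000015000340001530001400033000140000120003200010200013000310001310001300030000134000110002f000121000120002e000082000120002d000123000110002c000111000110002b0001120000a0002a0000a400010000290001000000f000280000e40000f000270000f30000f000260000f20000e000250000d10000e) (.leaf 0x670000000000000066000015000000006500001500000)))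

/-- the certificate -/
noncomputable def cert : Cert where
  n := 1
  v := 23
  g := 5
  inv := [0, 1, 2, 3, 4]
  rels := [[0, 1, 0, 1, 0, 1], [1, 2, 1, 2, 1, 2], [2, 3, 2, 3, 2, 3], [3, 4, 3, 4, 3, 4], [0, 3, 0, 3], [0, 4, 0, 4], [1, 3, 1, 3], [1, 4, 1, 4], [2, 4, 2, 4], [0, 2, 0, 2, 0, 2, 0, 2, 0, 2, 4], [0, 1, 2, 0, 1, 2, 0, 1, 2, 4]]
  subs := [[1], [2], [3], [4]]
  tab := tab
  par := par
  fact := fact
  nfact := 99

/-- justifications -/
noncomputable def just0 : List Cert.Just :=
  [.define,
   .loop (some (4, 1)) [.bwd 0, .edge 3, .fwd 0],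
   .loop (some (5, 1)) [.bwd 0, .edge 4, .fwd 0],
   .define,
   .loop (some (0, 2)) [.bwd 3, .bwd 0, .edge 1, .fwd 0, .fwd 3],
   .loop (some (6, 1)) [.bwd 3, .fwd 1, .fwd 3],
   .loop (some (7, 1)) [.bwd 3, .fwd 2, .fwd 3],
   .define,
   .define,
   .loop (some (8, 1)) [.bwd 8, .fwd 6, .fwd 8],
   .define,
   .loop (some (10, 1)) [.bwd 7, .bwd 0, .edge 1, .edge 2, .fwd 0, .fwd 3, .fwd 8, .fwd 9, .fwd 10],
   .define,
   .loop (some (1, 1)) [.fwd 11, .bwd 7, .fwd 3, .fwd 8, .fwd 12],
   .loop (some (7, 1)) [.bwd 12, .fwd 9, .fwd 12],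
   .define,
   .loop (some (2, 2)) [.bwd 15, .bwd 7, .fwd 1, .fwd 7, .fwd 15],
   .define,
   .loop (some (6, 2)) [.bwd 15, .bwd 11, .fwd 17],
   .define,
   .loop (some (4, 1)) [.fwd 10, .fwd 17, .fwd 19],
   .loop (some (2, 0)) [.fwd 20, .bwd 8, .fwd 5, .fwd 8, .bwd 20],
   .define,
   .loop (some (6, 2)) [.fwd 20, .fwd 12, .fwd 22],
   .define,
   .loop (some (9, 1)) [.bwd 24, .fwd 13, .bwd 10, .bwd 8, .fwd 4, .fwd 8, .fwd 10, .bwd 13, .fwd 14, .fwd 24],
   .define,
   .loop (some (0, 1)) [.bwd 24, .bwd 12, .fwd 10, .fwd 11, .fwd 26],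
   .define,
   .loop (some (4, 2)) [.bwd 15, .fwd 26, .fwd 28],
   .define,
   .loop (some (4, 2)) [.bwd 22, .fwd 24, .fwd 30],
   .loop (some (6, 2)) [.bwd 28, .fwd 27, .fwd 30],
   .define,
   .loop (some (2, 1)) [.bwd 33, .bwd 30, .fwd 25, .fwd 30, .fwd 33],
   .loop (some (10, 9)) [.fwd 31, .fwd 23, .fwd 21, .bwd 19, .fwd 18, .fwd 16, .bwd 29, .bwd 32, .fwd 33],
   .define,
   .loop (some (5, 1)) [.bwd 31, .bwd 35, .fwd 36],
   .define,
   .loop (some (1, 2)) [.bwd 38, .fwd 23, .fwd 21, .bwd 23, .fwd 38],
   .define,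
   .loop (some (2, 2)) [.bwd 17, .bwd 13, .fwd 22, .fwd 38, .fwd 40],
   .loop (some (6, 2)) [.bwd 40, .fwd 39, .fwd 40],
   .define,
   .loop (some (7, 2)) [.bwd 43, .fwd 39, .fwd 43],
   .loop (some (8, 2)) [.fwd 37, .fwd 38, .fwd 43],
   .define,
   .define,
   .loop (some (4, 2)) [.fwd 40, .fwd 46, .fwd 47],
   .define,
   .loop (some (5, 2)) [.bwd 43, .bwd 48, .fwd 49],
   .define,
   .loop (some (0, 2)) [.bwd 51, .fwd 50, .fwd 44, .bwd 50, .fwd 51],
   .loop (some (10, 2)) [.bwd 46, .fwd 42, .fwd 41, .fwd 19, .bwd 23, .fwd 38, .fwd 43, .bwd 50, .fwd 51],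
   .loop (some (9, 10)) [.bwd 46, .fwd 41, .fwd 19, .fwd 21, .bwd 19, .bwd 41, .fwd 46, .bwd 53, .fwd 52, .fwd 53],
   .loop (some (3, 4)) [.bwd 49, .bwd 47, .fwd 54, .fwd 47, .fwd 49],
   .loop (some (6, 3)) [.bwd 51, .fwd 55, .fwd 51],
   .loop (some (2, 4)) [.bwd 47, .bwd 53, .fwd 56, .fwd 53, .fwd 47],
   .loop (some (8, 2)) [.bwd 49, .fwd 57, .fwd 49],
   .loop (some (9, 1)) [.fwd 57, .fwd 48, .bwd 38, .bwd 31, .fwd 33, .fwd 36, .bwd 45, .bwd 50, .fwd 58, .bwd 49, .fwd 48],
   .loop none [.bwd 59],
   .loop none [.bwd 48, .bwd 60],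
   .loop none [.fwd 60, .bwd 57, .bwd 60, .bwd 38],
   .loop none [.fwd 47, .bwd 60, .fwd 40],
   .loop none [.bwd 49, .bwd 60, .fwd 43],
   .loop none [.bwd 62],
   .loop none [.fwd 65, .bwd 61, .bwd 65, .bwd 31],
   .loop none [.fwd 65, .bwd 39, .bwd 65, .fwd 23],
   .loop none [.fwd 38, .bwd 65],
   .loop none [.bwd 40, .bwd 65, .bwd 22],
   .loop none [.bwd 43, .bwd 65, .bwd 37],
   .loop none [.bwd 63],
   .loop none [.fwd 53, .bwd 71, .fwd 41],
   .loop none [.bwd 64],
   .loop none [.bwd 51, .bwd 73, .fwd 44],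
   .loop none [.fwd 66],
   .loop none [.bwd 33, .bwd 75, .fwd 68],
   .loop none [.fwd 35, .bwd 75, .bwd 37],
   .loop none [.bwd 67],
   .loop none [.fwd 22, .bwd 78, .fwd 20],
   .loop none [.bwd 69],
   .loop none [.bwd 41, .bwd 80, .fwd 13],
   .loop none [.bwd 70],
   .loop none [.bwd 72],
   .loop none [.fwd 82, .fwd 74, .bwd 83],
   .loop none [.bwd 76, .bwd 78],
   .loop none [.fwd 85, .bwd 34, .bwd 85, .fwd 20],
   .loop none [.fwd 85, .bwd 77, .bwd 84],
   .loop none [.bwd 79],
   .loop none [.fwd 12, .bwd 88],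
   .loop none [.bwd 13, .bwd 88, .bwd 8],
   .loop none [.bwd 81],
   .loop none [.fwd 91, .fwd 87, .bwd 86],
   .loop none [.fwd 92, .bwd 90],
   .loop none [.fwd 93, .bwd 89, .bwd 93, .bwd 3],
   .loop none [.bwd 94],
   .loop none [.fwd 95, .bwd 4, .bwd 95, .bwd 0],
   .loop none [.bwd 96],
   .loop none [.fwd 0, .bwd 97]]

/-- justifications -/
noncomputable def justs : List Cert.Just := just0

end CfsgLib.SEightThree.Five.C11
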